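import Groth.Agent.RpushLeft.NullRes
import Groth.Agent.DerAdj.Basic
import Groth.Agent.TriH.DerivedKInj

/-!
# `Rf_*` has a left adjoint for every morphism of ringed sites
-/

set_option autoImplicit false
set_option linter.style.haveILetI false

universe u

open CategoryTheory CategoryTheory.Limits Opposite CochainComplex CochainComplex.HomComplex

attribute [local instance] HasDerivedCategory.standard

namespace Groth.Agent.RpushLeft

variable {C D : Type u} [SmallCategory C] [SmallCategory D] {J : GrothendieckTopology C}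
  {K : GrothendieckTopology D} {O_C : Sheaf J CommRingCat.{u}} {O_D : Sheaf K CommRingCat.{u}}
  (f : ModSite.RMor O_C O_D) [SiteCmp.HasRpushD f]

/-- `f_* ⟶ Rf_*` on complexes. -/
noncomputable def comparison :
    f.push.mapHomologicalComplex (ComplexShape.up ℤ) ⋙ DerivedCategory.Q ⟶
      DerivedCategory.Q ⋙ SiteCmp.RpushD f :=
  (Functor.isoWhiskerLeft (f.push.mapHomologicalComplex (ComplexShape.up ℤ))
      (DerivedCategory.quotientCompQhIso (ModSite.Mod O_D)).symm ≪≫
    (Functor.associator _ _ _).symm ≪≫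
    Functor.isoWhiskerRight (f.push.mapHomotopyCategoryFactors (ComplexShape.up ℤ)).symm DerivedCategory.Qh ≪≫
    Functor.associator _ _ _).hom ≫
  Functor.whiskerLeft (HomotopyCategory.quotient (ModSite.Mod O_C) (ComplexShape.up ℤ))
    ((SiteCmp.pushKh f).totalRightDerivedUnit DerivedCategory.Qh
      (HomotopyCategory.quasiIso (ModSite.Mod O_C) (ComplexShape.up ℤ))) ≫
  (Functor.associator _ _ _).inv ≫
  Functor.whiskerRight (DerivedCategory.quotientCompQhIso (ModSite.Mod O_C)).hom (SiteCmp.RpushD f)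

lemma isIso_comparison (I : CochainComplex (ModSite.Mod O_C) ℤ) [I.IsKInjective] :
    IsIso ((comparison f).app I) := by
  haveI := ModGroth.sheaf_isGrothendieckAbelian (ModSite.ringSh O_C)
  have hres := TriH.exists_kInjective_homotopy (A := ModSite.Mod O_C) fun M => by
    obtain ⟨I, g, h1, h2, -⟩ := TriH.exists_kInjective_resolution M
    exact ⟨I, g, h1, h2⟩
  haveI := TriH.hasPointwiseRightDerivedFunctor_of_bijective (L := DerivedCategory.Qh) hres (SiteCmp.pushKh f)
  haveI := TriH.isIso_unit_of_bijective (L := DerivedCategory.Qh)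
    (W := HomotopyCategory.quasiIso (ModSite.Mod O_C) (ComplexShape.up ℤ)) (SiteCmp.pushKh f) (SiteCmp.RpushD f)
    ((SiteCmp.pushKh f).totalRightDerivedUnit DerivedCategory.Qh _) _
    (fun X => TriH.Qh_bijective_of_isKInjective I X)
  simp only [comparison, NatTrans.comp_app, Functor.whiskerLeft_app, Functor.whiskerRight_app]
  infer_instance

variable {P : CochainComplex (ModSite.Mod O_D) ℤ}

section HomBijective

variable {B : Type (u + 1)} [Category.{u} B] [Abelian B] {P F G : CochainComplex B ℤ} (q : F ⟶ G)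

/-- Lifting morphisms through `q` when its cone is right orthogonal to `P`. -/
lemma exists_homotopic_lift (hP : Null P (mappingCone q)) (h : P ⟶ G) :
    ∃ a : P ⟶ F, Nonempty (Homotopy h (a ≫ q)) := by
  obtain ⟨w, hw⟩ := hP (-1) 0 (by omega) ((Cochain.ofHom h).comp (Cochain.ofHom (mappingCone.inr q)) (zero_add 0))
    (by simp [← Cochain.ofHom_comp])
  let a := w.comp (mappingCone.fst q).1 (show -1 + 1 = 0 by rfl)
  have ha : δ 0 1 a = 0 := by
    simp only [a]
    rw [δ_comp _ _ (show (-1 : ℤ) + 1 = 0 by rfl) 0 2 1 rfl rfl rfl, hw, Cocycle.δ_eq_zero, Cochain.comp_zero,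
      Cochain.comp_assoc_of_second_is_zero_cochain]
    simp
  refine ⟨Cocycle.homOf (Cocycle.mk a 1 rfl ha), ⟨(Cochain.equivHomotopy _ _).symm
    ⟨w.comp (mappingCone.snd q) (add_zero (-1)), ?_⟩⟩⟩
  rw [δ_comp_zero_cochain _ _ 0 (by omega), hw, mappingCone.δ_snd, Cochain.comp_neg,
    Cochain.ofHom_comp, Cocycle.cochain_ofHom_homOf_eq_coe]
  simp [a, Cochain.comp_assoc_of_third_is_zero_cochain]

/-- Maps killed by `q` are null homotopic. -/
lemma homotopy_zero_of_comp (hP : Null P (mappingCone q)) (h : P ⟶ F) (hh : Nonempty (Homotopy (h ≫ q) 0)) :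
    Nonempty (Homotopy h 0) := by
  obtain ⟨H⟩ := hh
  obtain ⟨z, hz⟩ := Cochain.equivHomotopy _ _ H
  rw [Cochain.ofHom_zero, add_zero] at hz
  let γ := mappingCone.liftCocycle q (Cocycle.ofHom h) (-z) (show (-1 : ℤ) + 1 = 0 by rfl)
    (by rw [δ_neg, ← hz, Cochain.ofHom_comp, Cocycle.ofHom_coe, neg_add_cancel])
  obtain ⟨w, hw⟩ := hP (-2) (-1) (by omega) γ.1 (γ.δ_eq_zero _)
  refine ⟨(Cochain.equivHomotopy _ _).symm ⟨-(w.comp (mappingCone.fst q).1 (show -2 + 1 = -1 by rfl)), ?_⟩⟩
  rw [δ_neg, δ_comp _ _ (show (-2 : ℤ) + 1 = -1 by rfl) (-1) 2 0 (by omega) rfl (by omega), hw,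
    Cocycle.δ_eq_zero, Cochain.comp_zero]
  simp [γ]

end HomBijective

omit [SiteCmp.HasRpushD f] in
lemma sub_eq_adjoint {X : ModSite.Mod O_D} {Z : ModSite.Mod O_C} (a b : f.pull.obj X ⟶ Z) :
    a - b = f.pull.map ((f.adj.unit.app X ≫ f.push.map a) - (f.adj.unit.app X ≫ f.push.map b)) ≫
      f.adj.counit.app Z := by
  refine Eq.trans ?_ (f.adj.homEquiv_counit X Z _)
  rw [← f.adj.homEquiv_unit X Z a, ← f.adj.homEquiv_unit X Z b]
  exact ((f.adj.homAddEquiv X Z).symm_apply_apply (a - b)).symm.trans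
    (congrArg (f.adj.homAddEquiv X Z).symm (map_sub (f.adj.homAddEquiv X Z) a b))

omit [SiteCmp.HasRpushD f] in
lemma unit_counit_eq {X : ModSite.Mod O_D} {Z : ModSite.Mod O_C} (a : X ⟶ f.push.obj Z) :
    f.adj.unit.app X ≫ f.push.map (f.pull.map a ≫ f.adj.counit.app Z) = a := by
  erw [← f.adj.homEquiv_counit X Z a, ← f.adj.homEquiv_unit X Z, Equiv.apply_symm_apply]

omit [SiteCmp.HasRpushD f] in
lemma Q_map_surjective_push (X : CochainComplex (ModSite.Mod O_D) ℤ) (I : CochainComplex (ModSite.Mod O_C) ℤ)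
    [I.IsKInjective] (y : DerivedCategory.Q.obj (res X) ⟶ DerivedCategory.Q.obj (pushCx f I)) :
    ∃ a : res X ⟶ pushCx f I, DerivedCategory.Q.map a = y := by
  haveI := ModGroth.sheaf_isGrothendieckAbelian (ModSite.ringSh O_D)
  obtain ⟨Jc, q, hJ, hq, -, -⟩ := TriH.exists_kInjective_resolution (pushCx f I)
  haveI := hJ
  haveI := hq
  obtain ⟨h, hh⟩ := TriH.Q_map_surjective_of_isKInjective _ Jc (y ≫ DerivedCategory.Q.map q)
  obtain ⟨a, ⟨H⟩⟩ := exists_homotopic_lift q (null_res f q X) h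
  refine ⟨a, ?_⟩
  rw [← cancel_mono (DerivedCategory.Q.map q), ← hh, ← Functor.map_comp, eq_comm, ← sub_eq_zero,
    ← Functor.map_sub, TriH.Q_map_eq_zero_iff_of_isKInjective]
  exact ⟨H.equivSubZero⟩

omit [SiteCmp.HasRpushD f] in
lemma homotopy_zero_push (X : CochainComplex (ModSite.Mod O_D) ℤ) (I : CochainComplex (ModSite.Mod O_C) ℤ)
    [I.IsKInjective] (a : res X ⟶ pushCx f I) (ha : DerivedCategory.Q.map a = 0) :
    Nonempty (Homotopy a 0) := by
  haveI := ModGroth.sheaf_isGrothendieckAbelian (ModSite.ringSh O_D)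
  obtain ⟨Jc, q, hJ, hq, -, -⟩ := TriH.exists_kInjective_resolution (pushCx f I)
  haveI := hJ
  haveI := hq
  refine homotopy_zero_of_comp q (null_res f q X) a ((TriH.Q_map_eq_zero_iff_of_isKInjective _).1 ?_)
  rw [Functor.map_comp, ha, zero_comp]

/-- `Rf_*` has a left adjoint. -/
theorem isRightAdjoint_RpushD : (SiteCmp.RpushD f).IsRightAdjoint := by
  haveI := ModGroth.sheaf_isGrothendieckAbelian (ModSite.ringSh O_C)
  refine Functor.isRightAdjoint_of_leftAdjointObjIsDefined_eq_top ?_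
  ext X
  simp only [Pi.top_apply, Prop.top_eq_true, iff_true]
  let Y := res (DerivedCategory.Q.objPreimage X)
  haveI := quasiIso_resq (DerivedCategory.Q.objPreimage X)
  let e : DerivedCategory.Q.obj Y ≅ X :=
    asIso (DerivedCategory.Q.map ((KFlat.Res.q (fun d : D => ModSite.freeOn O_D d)).app
      (DerivedCategory.Q.objPreimage X))) ≪≫ DerivedCategory.Q.objObjPreimageIso X
  obtain ⟨I₀, r, hI₀, hr, -, -⟩ := TriH.exists_kInjective_resolution (pullCx f Y)
  haveI := hI₀
  haveI := hr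
  let adjC : ∀ {I : CochainComplex (ModSite.Mod O_C) ℤ}, (pullCx f Y ⟶ I) → (Y ⟶ pushCx f I) :=
    fun g => DerAdj.complexUnit f.adj Y ≫ (f.push.mapHomologicalComplex (ComplexShape.up ℤ)).map g
  let η : X ⟶ (SiteCmp.RpushD f).obj (DerivedCategory.Q.obj I₀) :=
    e.inv ≫ DerivedCategory.Q.map (adjC r) ≫ (comparison f).app I₀
  have key : ∀ {I : CochainComplex (ModSite.Mod O_C) ℤ} (g : I₀ ⟶ I),
      η ≫ (SiteCmp.RpushD f).map (DerivedCategory.Q.map g) =
        e.inv ≫ DerivedCategory.Q.map (adjC (r ≫ g)) ≫ (comparison f).app I := fun {I} g => by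
    simp only [η, adjC, Category.assoc, Functor.map_comp]
    refine congrArg (fun t => e.inv ≫ _ ≫ _ ≫ t) ?_
    exact ((comparison f).naturality g).symm
  refine Functor.CorepresentableBy.isCorepresentable (X := DerivedCategory.Q.obj I₀)
    { homEquiv := fun {M} => Equiv.ofBijective (fun l => η ≫ (SiteCmp.RpushD f).map l) ?_
      homEquiv_comp := fun u v => by simp }
  obtain ⟨I, s, hI, hs, -, -⟩ := TriH.exists_kInjective_resolution (DerivedCategory.Q.objPreimage M)
  haveI := hI
  haveI := hs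
  let ψ : DerivedCategory.Q.obj I ≅ M :=
    (asIso (DerivedCategory.Q.map s)).symm ≪≫ DerivedCategory.Q.objObjPreimageIso M
  haveI := isIso_comparison f I
  suffices h : Function.Bijective (fun l : DerivedCategory.Q.obj I₀ ⟶ DerivedCategory.Q.obj I =>
      η ≫ (SiteCmp.RpushD f).map l) by
    have e' : (fun l : DerivedCategory.Q.obj I₀ ⟶ M => η ≫ (SiteCmp.RpushD f).map l) =
        (Iso.homToEquiv ((SiteCmp.RpushD f).mapIso ψ)) ∘
          (fun l => η ≫ (SiteCmp.RpushD f).map l) ∘ (Iso.homToEquiv ψ).symm := by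
      funext l
      simp [← Functor.map_comp]
    rw [e']
    exact (Equiv.bijective _).comp (h.comp (Equiv.bijective _))
  refine ⟨fun l₁ l₂ hl => ?_, fun y => ?_⟩
  · obtain ⟨g, hg⟩ := TriH.Q_map_surjective_of_isKInjective I₀ I l₁
    obtain ⟨g', hg'⟩ := TriH.Q_map_surjective_of_isKInjective I₀ I l₂
    subst hg hg'
    simp only [key, cancel_epi, cancel_mono] at hl
    have h0 : DerivedCategory.Q.map (adjC (r ≫ g) - adjC (r ≫ g')) = 0 := by
      rw [Functor.map_sub, hl, sub_self]
    obtain ⟨H⟩ := homotopy_zero_push f _ I _ h0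
    have H' : Homotopy (r ≫ g - r ≫ g') 0 := by
      refine (Homotopy.ofEq (HomologicalComplex.hom_ext _ _ fun n => ?_)).trans
        (((f.pull.mapHomotopy H).compRight (DerAdj.complexCounit f.adj I)).trans (Homotopy.ofEq (by simp)))
      exact sub_eq_adjoint f ((r ≫ g).f n) ((r ≫ g').f n)
    have h1 : DerivedCategory.Q.map (r ≫ g - r ≫ g') = 0 :=
      (TriH.Q_map_eq_zero_iff_of_isKInjective _).2 ⟨H'⟩
    rwa [Functor.map_sub, Functor.map_comp, Functor.map_comp, sub_eq_zero, cancel_epi] at h1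
  · obtain ⟨a, ha⟩ := Q_map_surjective_push f _ I (e.hom ≫ y ≫ inv ((comparison f).app I))
    let a' : pullCx f Y ⟶ I :=
      (f.pull.mapHomologicalComplex (ComplexShape.up ℤ)).map a ≫ DerAdj.complexCounit f.adj I
    have haa : adjC a' = a := by
      refine HomologicalComplex.hom_ext _ _ fun n => ?_
      exact unit_counit_eq f (a.f n)
    obtain ⟨g, hg⟩ := TriH.Q_map_surjective_of_isKInjective I₀ I
      (inv (DerivedCategory.Q.map r) ≫ DerivedCategory.Q.map a')
    refine ⟨DerivedCategory.Q.map g, ?_⟩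
    obtain ⟨H⟩ : Nonempty (Homotopy (r ≫ g) a') := by
      obtain ⟨H⟩ := (TriH.Q_map_eq_zero_iff_of_isKInjective (r ≫ g - a')).1 (by
        rw [Functor.map_sub, Functor.map_comp, hg, IsIso.hom_inv_id_assoc, sub_self])
      exact ⟨Homotopy.equivSubZero.symm H⟩
    have h2 : DerivedCategory.Q.map (adjC (r ≫ g)) = DerivedCategory.Q.map (adjC a') :=
      HomologicalComplexUpToQuasiIso.Q_map_eq_of_homotopy
        ((f.push.mapHomotopy H).compLeft (DerAdj.complexUnit f.adj Y))
    change η ≫ _ = y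
    rw [key, h2, haa, ha]
    simp

end Groth.Agent.RpushLeft
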