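import Groth.Agent.KFlat.Resolution
import Groth.Agent.TriH.DerivedProducts
import Mathlib.Algebra.Homology.HomotopyCategory.HomComplexShift

/-!
# Complexes with exact complexes of morphisms into a given complex

`Null K N` says that every cocycle `K ⟶ N` is a coboundary. The class is closed under cones,
coproducts and degreewise split sequential colimits.
-/

set_option autoImplicit false

universe v u w

open CategoryTheory CategoryTheory.Limits CochainComplex CochainComplex.HomComplex

namespace Groth.Agent.RpushLeft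

variable {A : Type u} [Category.{v} A] [Abelian A]

/-- Every cocycle from `K` to `N` is a coboundary. -/
def Null (K N : CochainComplex A ℤ) : Prop :=
  ∀ (n m : ℤ), n + 1 = m → ∀ z : Cochain K N m, δ m (m + 1) z = 0 → ∃ w : Cochain K N n, δ n m w = z

lemma null_of_isKInjective {K N : CochainComplex A ℤ} [N.IsKInjective] (hK : K.Acyclic) : Null K N :=
  fun n m hnm z hz => IsKInjective.eq_δ_of_cocycle (Cocycle.mk z (m + 1) rfl hz) hK n hnm

lemma null_of_isZero {K : CochainComplex A ℤ} (hK : IsZero K) (N : CochainComplex A ℤ) : Null K N := by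
  intro n m _ z _
  refine ⟨0, ?_⟩
  ext p q hpq
  exact ((HomologicalComplex.eval A (ComplexShape.up ℤ) p).map_isZero hK).eq_of_src _ _

/-- `Null` into a mapping cone. -/
lemma null_mappingCone_right {K F G : CochainComplex A ℤ} (φ : F ⟶ G) (hF : Null K F) (hG : Null K G) :
    Null K (mappingCone φ) := by
  intro n m hnm z hz
  let α := z.comp (mappingCone.fst φ).1 (show m + 1 = m + 1 from rfl)
  have hα : δ (m + 1) (m + 1 + 1) α = 0 := by
    simp only [α]
    rw [δ_comp _ _ rfl (m + 1) 2 (m + 1 + 1) rfl rfl rfl, hz, Cochain.zero_comp, smul_zero,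
      Cocycle.δ_eq_zero, Cochain.comp_zero, add_zero]
  obtain ⟨a, ha⟩ := hF m (m + 1) rfl α hα
  let z' := z + δ n m (a.comp (mappingCone.inl φ) (show m + (-1) = n by omega))
  have hz' : δ m (m + 1) z' = 0 := by simp [z', hz, δ_δ]
  have hfst : z'.comp (mappingCone.fst φ).1 rfl = 0 := by
    simp only [z', Cochain.add_comp]
    rw [δ_comp _ _ (show m + (-1) = n by omega) (m + 1) 0 m hnm rfl (by omega), ha, mappingCone.δ_inl]
    simp [α, Cochain.comp_assoc_of_second_is_zero_cochain]
  let β := z'.comp (mappingCone.snd φ) (add_zero m)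
  have hβ : δ m (m + 1) β = 0 := by
    simp only [β]
    rw [δ_comp_zero_cochain _ _ _ rfl, hz', mappingCone.δ_snd, Cochain.comp_neg,
      ← Cochain.comp_assoc_of_third_is_zero_cochain, hfst, Cochain.zero_comp, Cochain.zero_comp,
      neg_zero]
    simp
  obtain ⟨b, hb⟩ := hG n m hnm β hβ
  refine ⟨-a.comp (mappingCone.inl φ) (show m + (-1) = n by omega) +
    b.comp (Cochain.ofHom (mappingCone.inr φ)) (add_zero n), ?_⟩
  have hsplit : z' = β.comp (Cochain.ofHom (mappingCone.inr φ)) (add_zero m) := by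
    rw [mappingCone.ext_cochain_to_iff φ m (m + 1) rfl]
    refine ⟨?_, ?_⟩
    · rw [hfst, Cochain.comp_assoc_of_second_is_zero_cochain]
      simp
    · simp [β]
  rw [δ_add, δ_neg, δ_comp_ofHom, hb, ← hsplit]
  simp [z']

/-- `Null` out of a mapping cone. -/
lemma null_mappingCone_left {K L N : CochainComplex A ℤ} (φ : K ⟶ L) (hK : Null K N) (hL : Null L N) :
    Null (mappingCone φ) N := by
  intro n m hnm z hz
  let β := (Cochain.ofHom (mappingCone.inr φ)).comp z (zero_add m)
  obtain ⟨b, hb⟩ := hL n m hnm β (by simp only [β, δ_ofHom_comp, hz, Cochain.comp_zero])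
  let e := (mappingCone.snd φ).comp b (zero_add n)
  let z' := z - δ n m e
  have hz' : δ m (m + 1) z' = 0 := by simp [z', hz, δ_δ]
  have hinr : (Cochain.ofHom (mappingCone.inr φ)).comp z' (zero_add m) = 0 := by
    simp only [z', Cochain.comp_sub, ← δ_ofHom_comp]
    simp [e, hb, β]
  let α := (mappingCone.inl φ).comp z' (show (-1 : ℤ) + m = n by omega)
  have hα : δ n m α = 0 := by
    simp only [α]
    rw [δ_comp _ _ (show (-1 : ℤ) + m = n by omega) 0 (m + 1) m hnm rfl rfl, hz', Cochain.comp_zero,
      mappingCone.δ_inl, Cochain.ofHom_comp, Cochain.comp_assoc_of_first_is_zero_cochain, hinr,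
      Cochain.comp_zero, smul_zero, add_zero]
  obtain ⟨a, ha⟩ := hK (n - 1) n (by omega) α (by
    obtain rfl : n + 1 = m := hnm
    exact hα)
  refine ⟨e + (mappingCone.fst φ).1.comp a (show 1 + (n - 1) = n by omega), ?_⟩
  rw [δ_add, δ_comp _ _ (show 1 + (n - 1) = n by omega) 2 n m hnm rfl (by omega), ha,
    Cocycle.δ_eq_zero, Cochain.zero_comp, smul_zero, add_zero, ← eq_sub_iff_add_eq',
    mappingCone.ext_cochain_from_iff φ n m hnm]
  refine ⟨?_, ?_⟩
  · simp [α, z']
  · change _ = (Cochain.ofHom (mappingCone.inr φ)).comp z' _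
    rw [hinr, ← Cochain.comp_assoc_of_first_is_zero_cochain]
    simp

lemma null_sigma {ι : Type w} (K : ι → CochainComplex A ℤ) [HasCoproduct K]
    [HasColimitsOfShape (Discrete ι) A] (N : CochainComplex A ℤ) (h : ∀ i, Null (K i) N) :
    Null (∐ K) N := by
  intro n m hnm z hz
  choose w hw using fun i => h i n m hnm ((Cochain.ofHom (Sigma.ι K i)).comp z (zero_add m))
    (by rw [δ_ofHom_comp, hz, Cochain.comp_zero])
  have hc : ∀ p, IsColimit ((HomologicalComplex.eval A (ComplexShape.up ℤ) p).mapCocone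
      (Cofan.mk (∐ K) (Sigma.ι K))) := fun p => isColimitOfPreserves _ (coproductIsCoproduct K)
  let W : Cochain (∐ K) N n := Cochain.mk fun p q hpq =>
    (hc p).desc { pt := N.X q, ι := Discrete.natTrans fun i => (w i.as).v p q hpq }
  have hW : ∀ i, (Cochain.ofHom (Sigma.ι K i)).comp W (zero_add n) = w i := fun i => by
    ext p q hpq
    rw [Cochain.zero_cochain_comp_v, Cochain.ofHom_v]
    exact (hc p).fac _ ⟨i⟩
  refine ⟨W, ?_⟩
  ext p q hpq
  refine (hc p).hom_ext fun ⟨i⟩ => ?_
  have := Cochain.congr_v (hw i) p q hpq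
  rw [← hW i, δ_ofHom_comp, Cochain.zero_cochain_comp_v, Cochain.ofHom_v, Cochain.zero_cochain_comp_v,
    Cochain.ofHom_v] at this
  exact this

/-- `Null` passes to degreewise split sequential colimits. -/
lemma null_colimit_nat [HasColimitsOfShape ℕ A] (F : ℕ ⥤ CochainComplex A ℤ) (c : Cocone F)
    (hc : IsColimit c)
    (hsplit : ∀ (k : ℕ) (p : ℤ), IsSplitMono ((F.map (homOfLE (Nat.le_succ k))).f p))
    (N : CochainComplex A ℤ) (h : ∀ k, Null (F.obj k) N) : Null c.pt N := by
  intro n m hnm z hz
  let zk : ∀ k, Cochain (F.obj k) N m := fun k => (Cochain.ofHom (c.ι.app k)).comp z (zero_add m)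
  let u : ∀ k, F.obj k ⟶ F.obj (k + 1) := fun k => F.map (homOfLE (Nat.le_succ k))
  have hu : ∀ k, (Cochain.ofHom (u k)).comp (zk (k + 1)) (zero_add m) = zk k := fun k => by
    simp only [zk, ← Cochain.comp_assoc_of_first_is_zero_cochain, ← Cochain.ofHom_comp, u, c.w]
  -- correct the next solution so that it extends the previous one
  have step : ∀ k (wk : Cochain (F.obj k) N n), δ n m wk = zk k →
      ∃ w' : Cochain (F.obj (k + 1)) N n, δ n m w' = zk (k + 1) ∧
        (Cochain.ofHom (u k)).comp w' (zero_add n) = wk := fun k wk hwk => by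
    obtain ⟨w', hw'⟩ := h (k + 1) n m hnm (zk (k + 1)) (by
      simp only [zk, δ_ofHom_comp, hz, Cochain.comp_zero])
    have hd : δ n m ((Cochain.ofHom (u k)).comp w' (zero_add n) - wk) = 0 := by
      rw [δ_sub, δ_ofHom_comp, hw', hu, hwk, sub_self]
    obtain ⟨e, he⟩ := h k (n - 1) n (by omega) ((Cochain.ofHom (u k)).comp w' (zero_add n) - wk) (by
      obtain rfl : n + 1 = m := hnm
      exact hd)
    let e' : Cochain (F.obj (k + 1)) N (n - 1) := Cochain.mk fun p q hpq =>
      haveI := hsplit k p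
      retraction ((u k).f p) ≫ e.v p q hpq
    have he' : (Cochain.ofHom (u k)).comp e' (zero_add (n - 1)) = e := by
      ext p q hpq
      haveI := hsplit k p
      simp [e', u]
    refine ⟨w' - δ (n - 1) n e', ?_, ?_⟩
    · rw [δ_sub, δ_δ, sub_zero, hw']
    · rw [Cochain.comp_sub, ← δ_ofHom_comp, he', he, sub_sub_cancel]
  obtain ⟨w0, hw0⟩ := h 0 n m hnm (zk 0) (by simp only [zk, δ_ofHom_comp, hz, Cochain.comp_zero])
  let sol : ∀ k, {w : Cochain (F.obj k) N n // δ n m w = zk k} := fun k =>
    Nat.rec ⟨w0, hw0⟩ (fun k w => ⟨(step k w.1 w.2).choose, (step k w.1 w.2).choose_spec.1⟩) k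
  have hsol : ∀ k, (Cochain.ofHom (u k)).comp (sol (k + 1)).1 (zero_add n) = (sol k).1 :=
    fun k => (step k (sol k).1 (sol k).2).choose_spec.2
  have hev : ∀ p, IsColimit ((HomologicalComplex.eval A (ComplexShape.up ℤ) p).mapCocone c) :=
    fun p => isColimitOfPreserves _ hc
  let W : Cochain c.pt N n := Cochain.mk fun p q hpq =>
    (hev p).desc
      { pt := N.X q
        ι := NatTrans.ofSequence (fun k => (sol k).1.v p q hpq) fun k => by
          refine Eq.trans ?_ (Category.comp_id _).symm
          have := Cochain.congr_v (hsol k) p q hpq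
          rw [Cochain.zero_cochain_comp_v, Cochain.ofHom_v] at this
          exact this }
  have hW : ∀ k, (Cochain.ofHom (c.ι.app k)).comp W (zero_add n) = (sol k).1 := fun k => by
    ext p q hpq
    rw [Cochain.zero_cochain_comp_v, Cochain.ofHom_v]
    exact (hev p).fac _ k
  refine ⟨W, ?_⟩
  ext p q hpq
  refine (hev p).hom_ext fun k => ?_
  have := Cochain.congr_v (sol k).2 p q hpq
  rw [← hW k, δ_ofHom_comp, Cochain.zero_cochain_comp_v, Cochain.ofHom_v] at this
  simp only [zk, Cochain.zero_cochain_comp_v, Cochain.ofHom_v] at this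
  exact this

end Groth.Agent.RpushLeft
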