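import Groth.Agent.RpushLeft.PullAcyclic
import Groth.Agent.KFlat.Bounded
import Groth.Agent.ModGroth.FreeOn

/-!
# Resolutions by free modules see `f_*` of K-injective complexes

If `q : f_* I ⟶ J` is a quasi-isomorphism of complexes with `I` and `J` K-injective and `N` is its
cone, every cocycle from a cell complex of free modules to `N` is a coboundary.
-/

set_option autoImplicit false

universe u

open CategoryTheory CategoryTheory.Limits Opposite CochainComplex CochainComplex.HomComplex

namespace Groth.Agent.RpushLeft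

variable {C D : Type u} [SmallCategory C] [SmallCategory D] {J : GrothendieckTopology C}
  {K : GrothendieckTopology D} {O_C : Sheaf J CommRingCat.{u}} {O_D : Sheaf K CommRingCat.{u}}
  (f : ModSite.RMor O_C O_D) {I : CochainComplex (ModSite.Mod O_C) ℤ} [I.IsKInjective]
  {Jc : CochainComplex (ModSite.Mod O_D) ℤ} [Jc.IsKInjective] (q : pushCx f I ⟶ Jc) [QuasiIso q]

/-- Free modules on objects separate morphisms. -/
lemma freeOn_separates {X Y : ModSite.Mod O_D} (g h : X ⟶ Y)
    (e : ∀ (d : D) (a : ModSite.freeOn O_D d ⟶ X), a ≫ g = a ≫ h) : g = h := by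
  refine DerAdj.SiteFree.hom_ext_top fun d x => ?_
  have := congrArg (ModGroth.FreeOn.homEquiv O_D d Y) (e d ((ModGroth.FreeOn.homEquiv O_D d X).symm x))
  rwa [ModGroth.FreeOn.homEquiv_comp, ModGroth.FreeOn.homEquiv_comp, Equiv.apply_symm_apply] at this

lemma null_boundedAbove {P : CochainComplex (ModSite.Mod O_D) ℤ} (hP : P.Acyclic)
    (h : ∀ i, PushAcyclic f (P.X i)) (h0 : ∀ i, 0 < i → IsZero (P.X i)) :
    Null P (mappingCone q) :=
  null_mappingCone_right q (null_push_of_null f (null_of_isKInjective (pull_acyclic f hP h h0)))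
    (null_of_isKInjective hP)

lemma null_free (d : D) (j : ℤ) :
    Null ((singleFunctor (ModSite.Mod O_D) j).obj (ModSite.freeOn O_D d)) (mappingCone q) := by
  intro n m hnm z hz
  let a : ModSite.freeOn O_D d ⟶ (mappingCone q).X (j + m) :=
    (Cochain.fromSingleEquiv (rfl : j + m = j + m)) z
  have hzeq : z = Cochain.fromSingleMk a rfl :=
    (Cochain.fromSingleEquiv (rfl : j + m = j + m)).injective
      (by rw [Cochain.fromSingleEquiv_fromSingleMk])
  have ha : a ≫ (mappingCone q).d (j + m) (j + m + 1) = 0 := by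
    rw [hzeq, Cochain.δ_fromSingleMk _ _ (m + 1) (j + m + 1) (by omega)] at hz
    have := congrArg (Cochain.fromSingleEquiv (show j + (m + 1) = j + m + 1 by omega)) hz
    rwa [Cochain.fromSingleEquiv_fromSingleMk, map_zero] at this
  let N := mappingCone q
  have hN : N.Acyclic := by
    intro i
    rw [HomologicalComplex.exactAt_iff_isZero_homology]
    exact (HomologicalComplex.exactAt_iff_isZero_homology _ _).1
      (KFlat.acyclic_mappingCone_of_quasiIso q i)
  let M := N⟦j + m⟧
  have hM : M.Acyclic := fun i => by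
    rw [HomologicalComplex.exactAt_iff_isZero_homology]
    exact IsZero.of_iso ((HomologicalComplex.exactAt_iff_isZero_homology _ _).1 (hN (j + m + i)))
      (((HomologicalComplex.homologyFunctor (ModSite.Mod O_D) (ComplexShape.up ℤ) 0).shiftIso
        (j + m) i (j + m + i) rfl).app N)
  let s₀ : St M 0 :=
    { K := ModSite.freeOn O_D d
      u := a ≫ (N.shiftFunctorObjXIso (j + m) 0 (j + m) (by omega)).inv
      hu := by
        change (a ≫ _) ≫ (N⟦j + m⟧).d 0 (0 + 1) = 0
        change (a ≫ (N.XIsoOfEq (show (0 : ℤ) + (j + m) = j + m by omega)).inv) ≫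
          ((j + m).negOnePow • N.d (0 + (j + m)) (0 + 1 + (j + m))) = 0
        obtain ⟨t, ht⟩ : ∃ t, t = (0 : ℤ) + 1 + (j + m) := ⟨_, rfl⟩
        rw [← ht]
        obtain rfl : t = j + m + 1 := by omega
        rw [Linear.comp_units_smul, Category.assoc, HomologicalComplex.XIsoOfEq_inv_comp_d, ha, smul_zero] }
  choose ov p hov hp using exists_pushAcyclic_epi f
  haveI := hp
  let Q := resCx ov p s₀
  have hQ : ∀ i, PushAcyclic f (Q.X i) := fun i =>
    match i with
    | Int.ofNat 0 => pushAcyclic_free f d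
    | Int.ofNat (k + 1) => pushAcyclic_of_isZero f (isZero_resCx ov p s₀ _ (Int.natCast_pos.2 (Nat.succ_pos k)))
    | Int.negSucc k => hov _
  let φ : Q ⟶ M := resMap ov p s₀
  let z₀ : Cocycle Q N (j + m) := (Cocycle.ofHom φ).rightUnshift (j + m) (zero_add _)
  obtain ⟨w, hw⟩ := null_boundedAbove f q (resCx_acyclic ov p s₀ hM) hQ (isZero_resCx ov p s₀)
    (j + m - 1) (j + m) (by omega) z₀.1 (z₀.δ_eq_zero _)
  have h := Cochain.congr_v hw 0 (j + m) (zero_add _)
  rw [δ_v (j + m - 1) (j + m) (by omega) w 0 (j + m) (zero_add _) (j + m - 1) (0 + 1) rfl rfl,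
    show Q.d 0 (0 + 1) = 0 from (isZero_resCx ov p s₀ (0 + 1) (by omega)).eq_of_tgt _ _,
    zero_comp, smul_zero, add_zero] at h
  simp only [z₀, Cocycle.rightUnshift_coe, Cocycle.ofHom_coe,
    Cochain.rightUnshift_v _ (j + m) (zero_add _) 0 (j + m) (zero_add _) 0 (add_zero 0), Cochain.ofHom_v] at h
  let b : ModSite.freeOn O_D d ⟶ N.X (j + n) :=
    w.v 0 (j + m - 1) (zero_add _) ≫ (N.XIsoOfEq (show j + m - 1 = j + n by omega)).hom
  refine ⟨Cochain.fromSingleMk b rfl, ?_⟩
  rw [Cochain.δ_fromSingleMk _ _ m (j + m) rfl, hzeq]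
  congr 1
  refine (Category.assoc _ _ _).trans ?_
  rw [HomologicalComplex.XIsoOfEq_hom_comp_d]
  refine h.trans ?_
  change (a ≫ _) ≫ _ = a
  rw [Category.assoc, Iso.inv_hom_id, Category.comp_id]

/-- The cell resolution. -/
noncomputable abbrev res (X : CochainComplex (ModSite.Mod O_D) ℤ) : CochainComplex (ModSite.Mod O_D) ℤ :=
  (KFlat.Res.R (fun d : D => ModSite.freeOn O_D d)).obj X

lemma quasiIso_resq (X : CochainComplex (ModSite.Mod O_D) ℤ) :
    QuasiIso ((KFlat.Res.q (fun d : D => ModSite.freeOn O_D d)).app X) :=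
  haveI := ModGroth.sheaf_isGrothendieckAbelian (ModSite.ringSh O_D)
  KFlat.Res.quasiIso_q (fun d : D => ModSite.freeOn O_D d) X fun g h e => freeOn_separates g h e

/-- Cell complexes of free modules see `f_* I` as they see its resolution. -/
lemma null_res (X : CochainComplex (ModSite.Mod O_D) ℤ) : Null (res X) (mappingCone q) := by
  let S := fun d : D => ModSite.freeOn O_D d
  refine null_colimit_nat (KFlat.Res.seqLeft S X) _ (colimit.isColimit _) (fun k p => ?_) _ fun k => ?_
  · rw [show (KFlat.Res.seqLeft S X).map (homOfLE (Nat.le_succ k)) = KFlat.Res.inclLeft S X k from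
      KFlat.Res.seqLeft_map_succ S X k]
    exact IsSplitMono.mk' ⟨(mappingCone.snd _).v p p (add_zero p), mappingCone.inr_f_snd_v _ p⟩
  · change Null (KFlat.Res.stage S X k).left _
    induction k with
    | zero => exact null_of_isZero (KFlat.Res.isZero_stage_zero S X) _
    | succ k ih =>
      exact null_mappingCone_left (KFlat.Res.attach S (KFlat.Res.stage S X k))
        (null_sigma _ _ fun x => null_free f q x.2.1 x.1) ih

end Groth.Agent.RpushLeft
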