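import Mathlib.Algebra.Homology.HomologicalComplex
import Mathlib.Algebra.Homology.Refinements
import Mathlib.CategoryTheory.Abelian.Refinements

/-!
# Bounded above acyclic complexes mapping to an acyclic complex
-/

set_option autoImplicit false

universe v u

open CategoryTheory CategoryTheory.Limits

namespace Groth.Agent.RpushLeft

variable {A : Type u} [Category.{v} A] [Abelian A] (M : CochainComplex A ℤ)

/-- The degree of the `k`-th stage. -/
def idx : ℕ → ℤ
  | 0 => 0
  | k + 1 => Int.negSucc k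

lemma idx_succ : ∀ k, idx (k + 1) + 1 = idx k
  | 0 => rfl
  | _ + 1 => rfl

/-- A stage: an object to be covered and a cycle on it. -/
structure St (k : ℕ) where
  /-- the object to be covered -/
  K : A
  /-- the cycle -/
  u : K ⟶ M.X (idx k)
  hu : u ≫ M.d (idx k) (idx k + 1) = 0

variable (ov : A → A) (p : ∀ Z, ov Z ⟶ Z)

section

variable {M} {k : ℕ} (s : St M k)

/-- `(x, y) ↦ u x - d y`. -/
noncomputable def diff : s.K ⊞ M.X (idx (k + 1)) ⟶ M.X (idx k) :=
  biprod.desc s.u (-M.d (idx (k + 1)) (idx k))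

/-- The next term. -/
noncomputable def St.next : A := ov (kernel (diff s))

/-- The cover. -/
noncomputable def St.e : s.next ov ⟶ s.K := p _ ≫ kernel.ι (diff s) ≫ biprod.fst

/-- The lift of the cycle. -/
noncomputable def St.h : s.next ov ⟶ M.X (idx (k + 1)) := p _ ≫ kernel.ι (diff s) ≫ biprod.snd

lemma St.h_d : s.h ov p ≫ M.d (idx (k + 1)) (idx k) = s.e ov p ≫ s.u := by
  have h := congrArg (p _ ≫ ·) (kernel.condition (diff s))
  simp only [comp_zero] at h
  rw [eq_comm, ← sub_eq_zero]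
  refine Eq.trans ?_ h
  conv_rhs => rw [show kernel.ι (diff s) ≫ diff s = kernel.ι (diff s) ≫ biprod.fst ≫ s.u -
    kernel.ι (diff s) ≫ biprod.snd ≫ M.d (idx (k + 1)) (idx k) from by
      rw [← Preadditive.comp_sub]; congr 1; apply biprod.hom_ext' <;> simp [diff]]
  simp [St.e, St.h, Preadditive.comp_sub]
  rfl

lemma St.epi_e (hM : M.Acyclic) [∀ Z, Epi (p Z)] : Epi (s.e ov p) := by
  haveI : Epi (kernel.ι (diff s) ≫ biprod.fst) := by
    rw [epi_iff_surjective_up_to_refinements]
    intro T x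
    obtain ⟨T', π, hπ, b, hb⟩ := ((HomologicalComplex.exactAt_iff' M (idx (k + 1)) (idx k) (idx k + 1)
      (by simp; have := idx_succ k; omega) (by simp)).1 (hM (idx k))).exact_up_to_refinements (x ≫ s.u)
        (by
          change (x ≫ s.u) ≫ M.d (idx k) (idx k + 1) = 0
          rw [Category.assoc, s.hu, comp_zero])
    replace hb : π ≫ x ≫ s.u = b ≫ M.d (idx (k + 1)) (idx k) := hb
    refine ⟨T', π, hπ, kernel.lift _ (biprod.lift (π ≫ x) b) ?_, ?_⟩
    · simp [diff, biprod.lift_desc, hb]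
      exact add_neg_cancel _
    · simp
  unfold St.e
  exact epi_comp (p (kernel (diff s))) (kernel.ι (diff s) ≫ biprod.fst)

/-- The next stage. -/
noncomputable def St.succ : St M (k + 1) where
  K := kernel (s.e ov p)
  u := kernel.ι _ ≫ s.h ov p
  hu := by
    rw [idx_succ, Category.assoc, s.h_d, kernel.condition_assoc, zero_comp]

end

variable {M} (s₀ : St M 0)

/-- All stages. -/
noncomputable def stages : ∀ k, St M k
  | 0 => s₀
  | k + 1 => (stages k).succ ov p

/-- The terms. -/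
noncomputable def term : ℕ → A
  | 0 => s₀.K
  | k + 1 => (stages ov p s₀ k).next ov

/-- The differentials. -/
noncomputable def dif : ∀ k, term ov p s₀ (k + 1) ⟶ term ov p s₀ k
  | 0 => s₀.e ov p
  | k + 1 => (stages ov p s₀ (k + 1)).e ov p ≫ kernel.ι _

lemma dif_dif : ∀ k, dif ov p s₀ (k + 1) ≫ dif ov p s₀ k = 0
  | 0 => by
    change (_ ≫ kernel.ι _) ≫ s₀.e ov p = 0
    rw [Category.assoc]
    erw [kernel.condition]
    exact comp_zero
  | k + 1 => by
    change (_ ≫ kernel.ι ((stages ov p s₀ (k + 1)).e ov p)) ≫ (stages ov p s₀ (k + 1)).e ov p ≫ _ = 0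
    rw [Category.assoc, kernel.condition_assoc, zero_comp, comp_zero]

/-- The components of the map to `M`. -/
noncomputable def comp : ∀ k, term ov p s₀ k ⟶ M.X (idx k)
  | 0 => s₀.u
  | k + 1 => (stages ov p s₀ k).h ov p

lemma comp_d : ∀ k, comp ov p s₀ (k + 1) ≫ M.d (idx (k + 1)) (idx k) = dif ov p s₀ k ≫ comp ov p s₀ k
  | 0 => (s₀).h_d ov p
  | k + 1 => by
    refine ((stages ov p s₀ (k + 1)).h_d ov p).trans ?_
    exact (Category.assoc _ _ _).symm

open ZeroObject in
/-- The terms in all degrees. -/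
noncomputable def termZ : ℤ → A
  | Int.ofNat 0 => term ov p s₀ 0
  | Int.ofNat (_ + 1) => 0
  | Int.negSucc k => term ov p s₀ (k + 1)

/-- The differentials in all degrees. -/
noncomputable def difZ : ∀ i : ℤ, termZ ov p s₀ i ⟶ termZ ov p s₀ (i + 1)
  | Int.ofNat 0 => 0
  | Int.ofNat (_ + 1) => 0
  | Int.negSucc 0 => dif ov p s₀ 0
  | Int.negSucc (k + 1) => dif ov p s₀ (k + 1)

lemma difZ_difZ : ∀ i : ℤ, difZ ov p s₀ i ≫ difZ ov p s₀ (i + 1) = 0
  | Int.ofNat 0 => zero_comp
  | Int.ofNat (_ + 1) => zero_comp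
  | Int.negSucc 0 => comp_zero
  | Int.negSucc 1 => dif_dif ov p s₀ 0
  | Int.negSucc (k + 2) => dif_dif ov p s₀ (k + 1)

/-- The complex. -/
noncomputable def resCx : CochainComplex A ℤ :=
  CochainComplex.of (termZ ov p s₀) (difZ ov p s₀) (difZ_difZ ov p s₀)

open ZeroObject in
lemma isZero_resCx (i : ℤ) (hi : 0 < i) : IsZero ((resCx ov p s₀).X i) := by
  obtain ⟨n, rfl⟩ : ∃ n : ℕ, i = Int.ofNat (n + 1) :=
    ⟨(i - 1).toNat, by change i = ((((i - 1).toNat + 1 : ℕ)) : ℤ); omega⟩
  exact isZero_zero A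

lemma of_d' (i : ℤ) : (resCx ov p s₀).d i (i + 1) = difZ ov p s₀ i := by
  unfold resCx
  apply CochainComplex.of_d

/-- The map to `M`. -/
noncomputable def resMap : resCx ov p s₀ ⟶ M where
  f
    | Int.ofNat 0 => s₀.u
    | Int.ofNat (_ + 1) => 0
    | Int.negSucc k => comp ov p s₀ (k + 1)
  comm' := fun i j (hij : i + 1 = j) => by
    subst hij
    simp only [resCx, CochainComplex.of_d]
    match i with
    | Int.ofNat 0 => exact s₀.hu.trans zero_comp.symm
    | Int.ofNat (_ + 1) => exact zero_comp.trans zero_comp.symm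
    | Int.negSucc 0 => exact comp_d ov p s₀ 0
    | Int.negSucc (k + 1) => exact comp_d ov p s₀ (k + 1)

lemma prev_exact (hM : M.Acyclic) [∀ Z, Epi (p Z)] (k : ℕ) :
    (ShortComplex.mk (dif ov p s₀ (k + 1)) (dif ov p s₀ k) (dif_dif ov p s₀ k)).Exact := by
  rw [ShortComplex.exact_iff_exact_up_to_refinements]
  intro T (x : T ⟶ term ov p s₀ (k + 1)) (hx : x ≫ dif ov p s₀ k = 0)
  have hx' : x ≫ (stages ov p s₀ k).e ov p = 0 := by
    match k with
    | 0 => exact hx
    | k + 1 =>
      refine (cancel_mono (kernel.ι ((stages ov p s₀ k).e ov p))).1 ?_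
      exact ((Category.assoc _ _ _).trans hx).trans zero_comp.symm
  haveI := (stages ov p s₀ (k + 1)).epi_e ov p hM
  obtain ⟨T', π, hπ, y, hy⟩ := surjective_up_to_refinements_of_epi
    ((stages ov p s₀ (k + 1)).e ov p) (kernel.lift _ x hx')
  refine ⟨T', π, hπ, y, ?_⟩
  change π ≫ x = y ≫ (stages ov p s₀ (k + 1)).e ov p ≫ kernel.ι _
  rw [← reassoc_of% hy]
  exact congrArg (π ≫ ·) (kernel.lift_ι _ _ hx').symm

lemma resCx_acyclic (hM : M.Acyclic) [∀ Z, Epi (p Z)] : (resCx ov p s₀).Acyclic := by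
  intro i
  match i with
  | Int.ofNat (n + 1) =>
    exact ShortComplex.exact_of_isZero_X₂ _ (isZero_resCx ov p s₀ (Int.ofNat (n + 1))
      (Int.natCast_pos.2 (Nat.succ_pos n)))
  | Int.ofNat 0 =>
    rw [HomologicalComplex.exactAt_iff' _ (Int.negSucc 0) (Int.ofNat 0) (Int.ofNat 1) (by simp) (by simp),
      ShortComplex.exact_iff_exact_up_to_refinements]
    intro T x _
    haveI := s₀.epi_e ov p hM
    obtain ⟨T', π, hπ, y, hy⟩ := surjective_up_to_refinements_of_epi (s₀.e ov p)
      (x : T ⟶ s₀.K)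
    refine ⟨T', π, hπ, y, hy.trans (congrArg (y ≫ ·) ?_)⟩
    exact (of_d' ov p s₀ (Int.negSucc 0)).symm
  | Int.negSucc 0 =>
    rw [HomologicalComplex.exactAt_iff' _ (Int.negSucc 1) (Int.negSucc 0) (Int.ofNat 0) (by simp) (by simp)]
    refine (ShortComplex.exact_iff_of_iso ?_).1 (prev_exact ov p s₀ hM 0)
    exact ShortComplex.isoMk (Iso.refl _) (Iso.refl _) (Iso.refl _)
      ((Category.id_comp _).trans ((of_d' ov p s₀ (Int.negSucc 1)).trans (Category.comp_id _).symm))
      ((Category.id_comp _).trans ((of_d' ov p s₀ (Int.negSucc 0)).trans (Category.comp_id _).symm))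
  | Int.negSucc (k + 1) =>
    rw [HomologicalComplex.exactAt_iff' _ (Int.negSucc (k + 2)) (Int.negSucc (k + 1)) (Int.negSucc k)
      (by simp) (by simp; rfl)]
    refine (ShortComplex.exact_iff_of_iso ?_).1 (prev_exact ov p s₀ hM (k + 1))
    exact ShortComplex.isoMk (Iso.refl _) (Iso.refl _) (Iso.refl _)
      ((Category.id_comp _).trans ((of_d' ov p s₀ (Int.negSucc (k + 2))).trans (Category.comp_id _).symm))
      ((Category.id_comp _).trans ((of_d' ov p s₀ (Int.negSucc (k + 1))).trans (Category.comp_id _).symm))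

end Groth.Agent.RpushLeft
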