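import Groth.Agent.RpushLeft.Null
import Groth.Agent.RpushLeft.Recursion
import Groth.Agent.DerAdj.SiteFreeAcyclic
import Groth.Agent.ModGroth.Basic
import Groth.Prelude.Def_SiteCmp

/-!
# Inverse images of bounded above acyclic complexes of sums of free modules are acyclic

For a morphism of ringed sites `f`, modules `Z` with `Ext^{>0}(Z, f_* J) = 0` for all injective `J`
include the sums of free modules, and `f^*` is exact on extensions by such modules.
-/

set_option autoImplicit false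

universe u

open CategoryTheory CategoryTheory.Limits CategoryTheory.Abelian Opposite CochainComplex
  CochainComplex.HomComplex

namespace Groth.Agent.RpushLeft

variable {C D : Type u} [SmallCategory C] [SmallCategory D] {J : GrothendieckTopology C}
  {K : GrothendieckTopology D} {O_C : Sheaf J CommRingCat.{u}} {O_D : Sheaf K CommRingCat.{u}}
  (f : ModSite.RMor O_C O_D)

/-- Acyclic for all direct images of injectives. -/
def PushAcyclic (Z : ModSite.Mod O_D) : Prop :=
  haveI : HasExt.{u + 1} (ModSite.Mod O_D) := HasExt.standard _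
  ∀ (I : ModSite.Mod O_C), Injective I → ∀ k : ℕ, Subsingleton (Ext.{u + 1} Z (f.push.obj I) (k + 1))

lemma pushAcyclic_of_isZero {Z : ModSite.Mod O_D} (hZ : IsZero Z) : PushAcyclic f Z := by
  haveI : HasExt.{u + 1} (ModSite.Mod O_D) := HasExt.standard _
  intro I _ k
  refine subsingleton_of_forall_eq 0 fun x => ?_
  rw [← Ext.mk₀_id_comp x, hZ.eq_of_src (𝟙 Z) 0, Ext.mk₀_zero, Ext.zero_comp]

lemma pushAcyclic_of_iso {Z Z' : ModSite.Mod O_D} (e : Z ≅ Z') (h : PushAcyclic f Z) :
    PushAcyclic f Z' := by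
  haveI : HasExt.{u + 1} (ModSite.Mod O_D) := HasExt.standard _
  intro I hI k
  have := h I hI k
  refine subsingleton_of_forall_eq 0 fun x => ?_
  rw [← Ext.mk₀_id_comp x, ← e.inv_hom_id, ← Ext.mk₀_comp_mk₀, Ext.comp_assoc_of_second_deg_zero,
    Subsingleton.elim ((Ext.mk₀ e.hom).comp x (zero_add _)) 0, Ext.comp_zero]

lemma pushAcyclic_sigma_free {ι : Type u} (V : ι → D) :
    PushAcyclic f (∐ fun i => ModSite.freeOn O_D (V i)) := by
  haveI := ModGroth.sheaf_isGrothendieckAbelian (ModSite.ringSh O_D)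
  haveI : HasExt.{u + 1} (ModSite.Mod O_D) := HasExt.standard _
  intro I hI k
  haveI := hI
  exact DerAdj.SiteFree.subsingleton_ext_sigma_free V k _ (DerAdj.SiteFree.isTotallyAcyclic_push_injective f)

lemma pushAcyclic_free (d : D) : PushAcyclic f (ModSite.freeOn O_D d) :=
  pushAcyclic_of_iso f
    { hom := Sigma.desc fun _ : PUnit.{u + 1} => 𝟙 (ModSite.freeOn O_D d)
      inv := Sigma.ι (fun _ : PUnit.{u + 1} => ModSite.freeOn O_D d) PUnit.unit
      hom_inv_id := Sigma.hom_ext _ _ fun ⟨⟩ => by simp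
      inv_hom_id := by simp }
    (pushAcyclic_sigma_free f fun _ : PUnit.{u + 1} => d)

lemma exists_pushAcyclic_epi (M : ModSite.Mod O_D) :
    ∃ (Z : ModSite.Mod O_D) (p : Z ⟶ M), PushAcyclic f Z ∧ Epi p := by
  obtain ⟨ι, V, p, hp⟩ := DerAdj.SiteFree.exists_epi_sigma_free M
  exact ⟨_, p, pushAcyclic_sigma_free f V, hp⟩

/-- `f^*` preserves a monomorphism with push-acyclic cokernel. -/
lemma mono_pull_map {S : ShortComplex (ModSite.Mod O_D)} (hS : S.ShortExact) (h : PushAcyclic f S.X₃) :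
    Mono (f.pull.map S.f) := by
  haveI := ModGroth.sheaf_isGrothendieckAbelian (ModSite.ringSh O_C)
  haveI : HasExt.{u + 1} (ModSite.Mod O_D) := HasExt.standard _
  let a := f.adj.homEquiv _ _ (Injective.ι (f.pull.obj S.X₁))
  haveI := h (Injective.under (f.pull.obj S.X₁)) inferInstance 0
  obtain ⟨y, hy⟩ := Ext.contravariant_sequence_exact₁ hS (f.push.obj (Injective.under (f.pull.obj S.X₁)))
    (Ext.mk₀ a) (n₁ := 1) rfl (Subsingleton.elim _ _)
  obtain ⟨b, rfl⟩ := (Ext.mk₀_bijective _ _).2 y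
  rw [Ext.mk₀_comp_mk₀] at hy
  have hb : S.f ≫ b = a := (Ext.mk₀_bijective _ _).1 hy
  have hb' : f.pull.map S.f ≫ (f.adj.homEquiv _ _).symm b = Injective.ι (f.pull.obj S.X₁) := by
    rw [← Adjunction.homEquiv_naturality_left_symm, hb]
    exact (f.adj.homEquiv _ _).symm_apply_apply _
  exact mono_of_mono_fac hb'

section Acyclic

variable (P : CochainComplex (ModSite.Mod O_D) ℤ)

/-- Cycles, as kernels. -/
noncomputable abbrev Zc (i : ℤ) : ModSite.Mod O_D := kernel (P.d i (i + 1))

variable {P}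

/-- `0 ⟶ Zⁱ ⟶ Pⁱ ⟶ Zⁱ⁺¹ ⟶ 0`. -/
noncomputable abbrev cycShort (i : ℤ) : ShortComplex (ModSite.Mod O_D) :=
  ShortComplex.mk (kernel.ι (P.d i (i + 1)))
    (kernel.lift (P.d (i + 1) (i + 1 + 1)) (P.d i (i + 1)) (P.d_comp_d _ _ _))
    (by rw [← cancel_mono (kernel.ι _), Category.assoc, kernel.lift_ι, kernel.condition, zero_comp])

lemma epi_cycShort_g (hP : P.Acyclic) (i : ℤ) : Epi (cycShort (P := P) i).g := by
  rw [epi_iff_surjective_up_to_refinements]
  intro T x
  have h := ((HomologicalComplex.exactAt_iff' P i (i + 1) (i + 1 + 1) (by simp) (by simp)).1 (hP (i + 1))).exact_up_to_refinements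
    (x ≫ kernel.ι _) (by
      change (x ≫ kernel.ι _) ≫ P.d (i + 1) (i + 1 + 1) = 0
      rw [Category.assoc, kernel.condition, comp_zero])
  obtain ⟨T', π, hπ, b, hb⟩ := h
  exact ⟨T', π, hπ, b, by
    rw [← cancel_mono (kernel.ι (P.d (i + 1) (i + 1 + 1))), Category.assoc, Category.assoc]
    refine hb.trans ?_
    exact congrArg (b ≫ ·) (kernel.lift_ι _ _ _).symm⟩

lemma shortExact_cycShort (hP : P.Acyclic) (i : ℤ) : (cycShort (P := P) i).ShortExact := by
  refine { exact := ?_, mono_f := inferInstanceAs (Mono (kernel.ι _)), epi_g := epi_cycShort_g hP i }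
  rw [ShortComplex.exact_iff_exact_up_to_refinements]
  intro T x hx
  have hx' : x ≫ P.d i (i + 1) = 0 := by
    have := hx =≫ kernel.ι _
    rw [zero_comp, Category.assoc] at this
    exact (congrArg (x ≫ ·) (kernel.lift_ι _ _ _)).symm.trans this
  exact ⟨T, 𝟙 T, inferInstance, kernel.lift _ x hx',
    (Category.id_comp x).trans (kernel.lift_ι _ _ hx').symm⟩

lemma pushAcyclic_cycles (hP : P.Acyclic) (h : ∀ i, PushAcyclic f (P.X i))
    (h0 : ∀ i, 0 < i → IsZero (P.X i)) (i : ℤ) : PushAcyclic f (Zc P i) := by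
  haveI : HasExt.{u + 1} (ModSite.Mod O_D) := HasExt.standard _
  obtain ⟨n, hn⟩ : ∃ n : ℕ, 1 - i ≤ n := ⟨(1 - i).toNat, by omega⟩
  induction n generalizing i with
  | zero =>
    haveI : Mono (kernel.ι (P.d i (i + 1))) := inferInstance
    exact pushAcyclic_of_isZero f (IsZero.of_mono (kernel.ι (P.d i (i + 1))) (h0 i (by omega)))
  | succ n ih =>
    intro I hI k
    haveI := ih (i + 1) (by omega) I hI (k + 1)
    refine subsingleton_of_forall_eq 0 fun x => ?_
    obtain ⟨y, hy⟩ := Ext.contravariant_sequence_exact₁ (shortExact_cycShort hP i) (f.push.obj I) x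
      (n₁ := k + 1 + 1) (by omega) (@Subsingleton.elim _ ‹_› _ _)
    haveI := h i I hI k
    rw [← hy]
    exact (congrArg (fun t => (Ext.mk₀ _).comp t _) (@Subsingleton.elim _ ‹_› y 0)).trans (Ext.comp_zero _ _ _ _ _)

/-- `f^*` of a bounded above acyclic complex of push-acyclic modules is acyclic. -/
lemma pull_acyclic (hP : P.Acyclic) (h : ∀ i, PushAcyclic f (P.X i)) (h0 : ∀ i, 0 < i → IsZero (P.X i)) :
    ((f.pull.mapHomologicalComplex (ComplexShape.up ℤ)).obj P).Acyclic := by
  intro i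
  obtain ⟨j, rfl⟩ : ∃ j, i = j + 1 := ⟨i - 1, by omega⟩
  rw [HomologicalComplex.exactAt_iff' _ j (j + 1) (j + 1 + 1) (by simp) (by simp),
    ShortComplex.exact_iff_exact_up_to_refinements]
  intro T (x : T ⟶ f.pull.obj (P.X (j + 1))) hx
  change x ≫ f.pull.map (P.d (j + 1) (j + 1 + 1)) = 0 at hx
  haveI := epi_cycShort_g hP (P := P) j
  haveI := mono_pull_map f (shortExact_cycShort hP (j + 1 + 1)) (pushAcyclic_cycles f hP h h0 _)
  have hd : f.pull.map (cycShort (P := P) (j + 1)).g ≫ f.pull.map (cycShort (P := P) (j + 1 + 1)).f =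
      f.pull.map (P.d (j + 1) (j + 1 + 1)) := by
    rw [← Functor.map_comp]
    exact congrArg f.pull.map (kernel.lift_ι _ _ _)
  have hx' : x ≫ f.pull.map (cycShort (P := P) (j + 1)).g = 0 := by
    rw [← cancel_mono (f.pull.map (cycShort (P := P) (j + 1 + 1)).f), Category.assoc, hd, hx, zero_comp]
  have htf := (Functor.preservesFiniteColimits_tfae f.pull).out 3 1
  have hex : ((cycShort (P := P) (j + 1)).map f.pull).Exact :=
    (htf.1 inferInstance (cycShort (P := P) (j + 1))
      ⟨(shortExact_cycShort hP (j + 1)).exact, (shortExact_cycShort hP (j + 1)).epi_g⟩).1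
  haveI : Epi (f.pull.map (cycShort (P := P) j).g) := inferInstance
  obtain ⟨T', π, hπ, y, hy⟩ := hex.exact_up_to_refinements x hx'
  obtain ⟨T'', π', hπ', z, hz⟩ := surjective_up_to_refinements_of_epi (f.pull.map (cycShort (P := P) j).g) y
  refine ⟨T'', π' ≫ π, inferInstance, z, ?_⟩
  change (π' ≫ π) ≫ x = z ≫ f.pull.map (P.d j (j + 1))
  refine (Category.assoc _ _ _).trans ((congrArg (π' ≫ ·) hy).trans ?_)
  refine (Category.assoc _ _ _).symm.trans ((congrArg (· ≫ f.pull.map (cycShort (P := P) (j + 1)).f) hz).trans ((Category.assoc _ _ _).trans (congrArg (z ≫ ·) ?_)))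
  change f.pull.map _ ≫ f.pull.map _ = _
  rw [← Functor.map_comp]
  exact congrArg f.pull.map (kernel.lift_ι _ _ _)

end Acyclic

section Adjoint

variable {P : CochainComplex (ModSite.Mod O_D) ℤ} {I : CochainComplex (ModSite.Mod O_C) ℤ}

/-- `f^*` on complexes. -/
noncomputable abbrev pullCx (P : CochainComplex (ModSite.Mod O_D) ℤ) : CochainComplex (ModSite.Mod O_C) ℤ :=
  (f.pull.mapHomologicalComplex (ComplexShape.up ℤ)).obj P

/-- `f_*` on complexes. -/
noncomputable abbrev pushCx (I : CochainComplex (ModSite.Mod O_C) ℤ) : CochainComplex (ModSite.Mod O_D) ℤ :=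
  (f.push.mapHomologicalComplex (ComplexShape.up ℤ)).obj I

instance additive_push : f.push.Additive := f.adj.right_adjoint_additive

/-- Adjoint cochains. -/
noncomputable def adjunct {n : ℤ} (z : Cochain (pullCx f P) I n) : Cochain P (pushCx f I) n :=
  Cochain.mk fun p q h => f.adj.homEquiv _ _ (z.v p q h)

/-- Adjoint cochains, backwards. -/
noncomputable def coadjunct {n : ℤ} (z : Cochain P (pushCx f I) n) : Cochain (pullCx f P) I n :=
  Cochain.mk fun p q h => (f.adj.homEquiv _ _).symm (z.v p q h)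

lemma adjunct_coadjunct {n : ℤ} (z : Cochain P (pushCx f I) n) : adjunct f (coadjunct f z) = z := by
  refine Cochain.ext _ _ fun p q h => ?_
  exact (f.adj.homEquiv _ _).apply_symm_apply _

lemma adjunct_inj {n : ℤ} {z z' : Cochain (pullCx f P) I n} (h : adjunct f z = adjunct f z') : z = z' := by
  refine Cochain.ext _ _ fun p q hpq => ?_
  exact (f.adj.homEquiv _ _).injective (Cochain.congr_v h p q hpq)

lemma homEquiv_zero' (X : ModSite.Mod O_D) (Y : ModSite.Mod O_C) :
    f.adj.homEquiv X Y 0 = 0 :=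
  map_zero (f.adj.homAddEquiv X Y)

lemma homEquiv_δ {X X' : ModSite.Mod O_D} {Y Y' : ModSite.Mod O_C} (a : f.pull.obj X ⟶ Y)
    (d : Y ⟶ Y') (e : X ⟶ X') (a' : f.pull.obj X' ⟶ Y') (ε : ℤˣ) :
    f.adj.homEquiv X Y' (a ≫ d + ε • (f.pull.map e ≫ a')) =
      f.adj.homEquiv X Y a ≫ f.push.map d + ε • (e ≫ f.adj.homEquiv X' Y' a') := by
  have h1 : f.adj.homEquiv X Y' (a ≫ d + ε • (f.pull.map e ≫ a')) =
      f.adj.homEquiv X Y' (a ≫ d) + ε • f.adj.homEquiv X Y' (f.pull.map e ≫ a') :=
    ((f.adj.homAddEquiv X Y').map_add _ _).trans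
      (congrArg _ (map_zsmul (f.adj.homAddEquiv X Y') (ε : ℤ) _))
  rw [h1, Adjunction.homEquiv_naturality_right, Adjunction.homEquiv_naturality_left]

lemma δ_adjunct (n m : ℤ) (z : Cochain (pullCx f P) I n) : δ n m (adjunct f z) = adjunct f (δ n m z) := by
  by_cases hnm : n + 1 = m
  · refine Cochain.ext _ _ fun p q hpq => ?_
    simp only [adjunct, Cochain.mk_v, δ_v n m hnm _ p q hpq (q - 1) (p + 1) rfl rfl]
    exact (homEquiv_δ f (z.v p (q - 1) (by omega)) (I.d (q - 1) q) (P.d p (p + 1))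
      (z.v (p + 1) q (by omega)) m.negOnePow).symm
  · rw [δ_shape n m hnm, δ_shape n m hnm]
    exact Cochain.ext _ _ fun p q hpq => (homEquiv_zero' f (P.X p) (I.X q)).symm

lemma null_push_of_null (h : Null (pullCx f P) I) : Null P (pushCx f I) := by
  intro n m hnm z hz
  obtain ⟨w, hw⟩ := h n m hnm (coadjunct f z) (adjunct_inj f (by
    rw [← δ_adjunct, adjunct_coadjunct, hz]
    exact Cochain.ext _ _ fun p q hpq => (homEquiv_zero' f (P.X p) (I.X q)).symm))
  exact ⟨adjunct f w, by rw [δ_adjunct, hw, adjunct_coadjunct]⟩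

end Adjoint

end Groth.Agent.RpushLeft
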